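/- The unit `G ⟶ i_* i^* G` of a closed immersion is an isomorphism iff the ideal kills `G`. -/
import Mathlib
import Groth.Agent.KFlat.ClosedImm

set_option autoImplicit false
set_option linter.style.haveILetI false
universe u
open CategoryTheory AlgebraicGeometry Opposite TopologicalSpace
open Groth.Agent.KFlat (PStalk pgerm pgerm_res pgerm_smul exists_pgerm kap pres pres_smul)

namespace Groth.Agent.SupportLib

variable {X Y : Scheme.{u}} (i : Y ⟶ X)

/-- the stalk of the unit, followed by the comparison map, is the canonical map to the pullback stalk -/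
theorem pushStalk_unit (G : X.Modules) (y : Y) (m : PStalk (DCoh.toP.obj G) (i.base y)) :
    KFlat.pushStalk i y _ (((DerSch.stalkFunctor X (i.base y)).map
      ((Scheme.Modules.pullbackPushforwardAdjunction i).unit.app G)).hom m) = kap i y G m := by
  obtain ⟨U, hU, s, rfl⟩ := exists_pgerm (DCoh.toP.obj G) (i.base y) m
  refine (congrArg (KFlat.pushStalk i y _) (KFlat.pstMap_germ (DCoh.toP.map _) _ hU s)).trans ?_
  exact (KFlat.pushStalk_germ i y _ U hU _).trans (KFlat.kap_germ i y G U hU s).symm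

/-- a module killed by the kernel of a surjective ring map is a module over the target -/
theorem exists_module_of_surjective {A B : Type u} [CommRing A] [CommRing B] (φ : A →+* B)
    (hφ : Function.Surjective φ) (M : Type u) [AddCommGroup M] [Module A M]
    (h : ∀ (a : A), φ a = 0 → ∀ m : M, a • m = 0) :
    ∃ inst : Module B M, ∀ (a : A) (m : M), (letI := inst; φ a • m) = a • m := by
  classical
  choose σ hσ using hφ
  have key : ∀ a m, σ (φ a) • m = a • m := fun a (m : M) => by
    rw [← sub_eq_zero, ← sub_smul]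
    exact h _ (by rw [map_sub, hσ, sub_self]) m
  letI : SMul B M := ⟨fun b m => σ b • m⟩
  exact ⟨Function.Surjective.moduleLeft φ (fun b => ⟨σ b, hσ b⟩) key, key⟩

theorem kap_bijective [IsClosedImmersion i] (G : X.Modules) (y : Y)
    (h : ∀ a, (i.stalkMap y).hom a = 0 → ∀ m : PStalk (DCoh.toP.obj G) (i.base y), a • m = 0) :
    Function.Bijective (kap i y G) := by
  have hs : Function.Surjective (i.stalkMap y).hom := i.stalkMap_surjective y
  constructor
  · obtain ⟨inst, hinst⟩ := exists_module_of_surjective (i.stalkMap y).hom hs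
      ((DerSch.stalkFunctor X (i.base y)).obj G) h
    letI := inst
    let P : ModuleCat.{u} (Y.presheaf.stalk y) := ModuleCat.of _ ((DerSch.stalkFunctor X (i.base y)).obj G)
    let h0 : (DerSch.stalkFunctor X (i.base y)).obj G ⟶ (ModuleCat.restrictScalars (i.stalkMap y).hom).obj P :=
      ModuleCat.ofHom (Y := (ModuleCat.restrictScalars (i.stalkMap y).hom).obj P)
        { toFun := fun m => (show (ModuleCat.restrictScalars (i.stalkMap y).hom).obj P from m)
          map_add' := fun _ _ => rfl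
          map_smul' := fun a m => (hinst a m).symm }
    obtain ⟨g, hg⟩ := KFlat.exists_pull_stalk_desc i y G h0
    exact Function.LeftInverse.injective (g := g.hom) hg
  · let B := (DerSch.stalkFunctor Y y).obj ((Scheme.Modules.pullback i).obj G)
    let S : Submodule (Y.presheaf.stalk y) B :=
      { carrier := Set.range (kap i y G)
        add_mem' := by
          rintro _ _ ⟨a, rfl⟩ ⟨b, rfl⟩
          exact ⟨a + b, map_add _ a b⟩
        zero_mem' := ⟨0, map_zero _⟩
        smul_mem' := by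
          rintro b _ ⟨a, rfl⟩
          obtain ⟨r, rfl⟩ := hs b
          exact ⟨r • a, KFlat.kap_smul i y G r a⟩ }
    have : (ModuleCat.ofHom S.mkQ : B ⟶ ModuleCat.of _ (B ⧸ S)) = 0 :=
      KFlat.pull_stalk_ext i y G fun m => (Submodule.Quotient.mk_eq_zero S).2 ⟨m, rfl⟩
    intro b
    exact (Submodule.Quotient.mk_eq_zero S).1 (congrArg (fun t => t.hom b) this)

theorem stalk_ann [IsClosedImmersion i] (G : X.Modules)
    (hker : ∀ (U : X.affineOpens) (a : Γ(X, U.1)), a ∈ i.ker.ideal U → ∀ s : Γ(G, U.1), a • s = 0)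
    (y : Y) (a : X.presheaf.stalk (i.base y)) (ha : (i.stalkMap y).hom a = 0)
    (m : PStalk (DCoh.toP.obj G) (i.base y)) : a • m = 0 := by
  obtain ⟨V, hV, r, rfl⟩ := X.presheaf.exists_germ_eq (x := i.base y) a
  obtain ⟨W, hW, s, rfl⟩ := exists_pgerm (DCoh.toP.obj G) (i.base y) m
  have h0 : Y.presheaf.germ (i ⁻¹ᵁ V) y hV ((i.app V).hom r) = 0 :=
    (Scheme.Hom.germ_stalkMap_apply i V y hV r).symm.trans ha
  obtain ⟨N, hyN, iN, iN', hN⟩ := Y.presheaf.germ_eq (U := i ⁻¹ᵁ V) (V := i ⁻¹ᵁ V) y hV hV _ 0 (h0.trans (map_zero _).symm)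
  obtain ⟨O, hO, hON⟩ := i.isClosedEmbedding.isInducing.isOpen_iff.1 N.isOpen
  have hyO : i.base y ∈ O := by
    have : y ∈ i.base ⁻¹' O := hON ▸ hyN
    exact this
  obtain ⟨D, hD, hxD, hDle⟩ := exists_isAffineOpen_mem_and_subset (U := (⟨O, hO⟩ : X.Opens) ⊓ V ⊓ W)
    (x := i.base y) ⟨⟨hyO, hV⟩, hW⟩
  have hDV : D ≤ V := fun z hz => (hDle hz).1.2
  have hDW : D ≤ W := fun z hz => (hDle hz).2
  have hDN : i ⁻¹ᵁ D ≤ N := fun z hz => by
    have : z ∈ i.base ⁻¹' O := (hDle hz).1.1
    rw [hON] at this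
    exact this
  have hr : X.presheaf.map (homOfLE hDV).op r ∈ i.ker.ideal ⟨D, hD⟩ := by
    rw [Scheme.Hom.ker_apply]
    refine RingHom.mem_ker.2 ?_
    refine (ConcreteCategory.congr_hom (i.naturality (homOfLE hDV).op) r).trans ?_
    have e : Y.presheaf.map ((Opens.map i.base).map (homOfLE hDV)).op =
        Y.presheaf.map iN.op ≫ Y.presheaf.map (homOfLE hDN).op := by
      rw [← Functor.map_comp]; rfl
    refine (congrArg (fun t => (ConcreteCategory.hom t) ((i.app V).hom r)) e).trans ?_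
    refine (congrArg (ConcreteCategory.hom (Y.presheaf.map (homOfLE hDN).op)) hN).trans ?_
    exact (congrArg _ (map_zero _)).trans (map_zero _)
  have h1 := hker ⟨D, hD⟩ _ hr (pres (DCoh.toP.obj G) hDW s)
  have h2 := (congrArg (pgerm (DCoh.toP.obj G) (i.base y) D hxD) h1).trans (map_zero _)
  refine Eq.trans ?_ h2
  refine Eq.trans ?_ (pgerm_smul (DCoh.toP.obj G) (i.base y) hxD _ _).symm
  rw [pgerm_res]
  exact congrArg (· • _) (X.presheaf.germ_res_apply (homOfLE hDV) _ hxD r).symm

theorem stalk_zero [IsClosedImmersion i] (G : X.Modules)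
    (hker : ∀ (U : X.affineOpens) (a : Γ(X, U.1)), a ∈ i.ker.ideal U → ∀ s : Γ(G, U.1), a • s = 0)
    (x : X) (hx : x ∉ Set.range i.base) : Subsingleton (PStalk (DCoh.toP.obj G) x) := by
  refine subsingleton_of_forall_eq 0 fun m => ?_
  obtain ⟨W, hW, s, rfl⟩ := exists_pgerm (DCoh.toP.obj G) x m
  obtain ⟨D, hD, hxD, hDle⟩ := exists_isAffineOpen_mem_and_subset
    (U := (⟨(Set.range i.base)ᶜ, i.isClosedEmbedding.isClosed_range.isOpen_compl⟩ : X.Opens) ⊓ W)
    (x := x) ⟨hx, hW⟩
  have hDW : D ≤ W := fun z hz => (hDle hz).2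
  have hbot : i ⁻¹ᵁ D = ⊥ := le_bot_iff.1 fun z hz => (hDle hz).1 ⟨z, rfl⟩
  have h1 : (1 : Γ(X, D)) ∈ i.ker.ideal ⟨D, hD⟩ := by
    rw [Scheme.Hom.ker_apply]
    refine RingHom.mem_ker.2 ?_
    haveI : Subsingleton Γ(Y, i ⁻¹ᵁ D) := by rw [hbot]; infer_instance
    exact Subsingleton.elim _ _
  have h2 : pres (DCoh.toP.obj G) hDW s = 0 :=
    (one_smul Γ(X, D) _).symm.trans (hker ⟨D, hD⟩ 1 h1 (pres (DCoh.toP.obj G) hDW s))
  rw [← pgerm_res (DCoh.toP.obj G) x hDW hxD s, h2, map_zero]

theorem isIso_unit_iff [IsClosedImmersion i] (G : X.Modules) :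
    IsIso ((Scheme.Modules.pullbackPushforwardAdjunction i).unit.app G) ↔
      ∀ (U : X.affineOpens) (a : Γ(X, U.1)), a ∈ i.ker.ideal U → ∀ s : Γ(G, U.1), a • s = 0 := by
  constructor
  · intro h U a ha s
    rw [Scheme.Hom.ker_apply] at ha
    set η := (Scheme.Modules.pullbackPushforwardAdjunction i).unit.app G with hη
    have hb := ConcreteCategory.bijective_of_isIso (η.app U.1)
    apply hb.1
    rw [map_zero, Scheme.Modules.Hom.app_smul]
    set t : Γ((Scheme.Modules.pullback i).obj G, i ⁻¹ᵁ U.1) := η.app U.1 s with ht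
    exact (congrArg (fun (b : Γ(Y, i ⁻¹ᵁ U.1)) => b • t) (RingHom.mem_ker.1 ha)).trans (zero_smul _ _)
  · intro hker
    refine KFlat.isIso_of_stalks _ fun x => ?_
    rw [ConcreteCategory.isIso_iff_bijective]
    by_cases hx : x ∈ Set.range i.base
    · obtain ⟨y, rfl⟩ := hx
      have hk := kap_bijective i G y (stalk_ann i G hker y)
      have hp := KFlat.pushStalk_bijective i y ((Scheme.Modules.pullback i).obj G)
      refine (Function.Bijective.of_comp_iff' hp _).1 ?_
      exact ⟨fun a b hab => hk.1 ((pushStalk_unit i G y a).symm.trans (hab.trans (pushStalk_unit i G y b))),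
        fun z => (hk.2 z).imp fun a ha => (pushStalk_unit i G y a).trans ha⟩
    · have h1 := stalk_zero i G hker x hx
      have h2 := KFlat.subsingleton_stalk_push i ((Scheme.Modules.pullback i).obj G) hx
      exact ⟨fun a b _ => @Subsingleton.elim _ h1 a b, fun b => ⟨0, @Subsingleton.elim _ h2 _ b⟩⟩

end Groth.Agent.SupportLib
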