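/- Supports of pullbacks and tensor products of modules of finite type. -/
import Mathlib
import Groth.Agent.KFlat.Pullback
import Groth.Agent.KFlat.SchemeStalk
import Groth.Agent.LocFree.Rank
import Groth.Agent.QC.FiniteType

set_option autoImplicit false
set_option linter.style.haveILetI false
universe u
open CategoryTheory AlgebraicGeometry TensorProduct IsLocalRing

namespace Groth.Agent.SupportLib

section Algebra
variable {A : Type u} [CommRing A] [IsLocalRing A] {M : Type u} [AddCommGroup M] [Module A M] [Module.Finite A M]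

theorem exists_functional (h : Nontrivial M) : ∃ (f : M →ₗ[A] ResidueField A) (m : M), f m = 1 := by
  haveI : Nontrivial (ResidueField A ⊗[A] M) := by
    rw [← not_subsingleton_iff_nontrivial, IsLocalRing.subsingleton_tensorProduct]
    exact not_subsingleton M
  obtain ⟨v, hv⟩ := exists_ne (0 : ResidueField A ⊗[A] M)
  obtain ⟨φ, hφ⟩ := Module.Projective.exists_dual_ne_zero (ResidueField A) hv
  let f : M →ₗ[A] ResidueField A := (φ.restrictScalars A).comp (TensorProduct.mk A (ResidueField A) M 1)
  obtain ⟨m, hm⟩ : ∃ m, f m ≠ 0 := by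
    by_contra hne
    simp only [not_exists, not_not] at hne
    apply hφ
    induction v using TensorProduct.induction_on with
    | zero => exact map_zero φ
    | tmul c m =>
      have : φ (c • ((1 : ResidueField A) ⊗ₜ[A] m)) = c • φ ((1 : ResidueField A) ⊗ₜ[A] m) := map_smul φ c _
      rw [TensorProduct.smul_tmul', smul_eq_mul, mul_one] at this
      rw [this, show φ ((1 : ResidueField A) ⊗ₜ[A] m) = 0 from hne m, smul_zero]
    | add a b ha hb =>
      by_cases ha0 : φ a = 0
      · by_cases hb0 : φ b = 0
        · rw [map_add, ha0, hb0, add_zero]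
        · exact absurd (hb (fun e => hb0 (by rw [e, map_zero])) hb0) hb0
      · exact absurd (ha (fun e => ha0 (by rw [e, map_zero])) ha0) ha0
  obtain ⟨a, ha⟩ := IsLocalRing.residue_surjective (f m)⁻¹
  refine ⟨f, a • m, ?_⟩
  rw [map_smul, Algebra.smul_def]
  exact (congrArg (· * f m) ha).trans (inv_mul_cancel₀ hm)

theorem nontrivial_tensor {N : Type u} [AddCommGroup N] [Module A N] [Module.Finite A N]
    (hM : Nontrivial M) (hN : Nontrivial N) : Nontrivial (M ⊗[A] N) := by
  obtain ⟨f, m, hm⟩ := exists_functional (A := A) hM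
  obtain ⟨g, n, hn⟩ := exists_functional (A := A) hN
  refine nontrivial_of_ne (m ⊗ₜ n) 0 fun h => ?_
  have := congrArg ((LinearMap.mul' A (ResidueField A)).comp (TensorProduct.map f g)) h
  rw [map_zero, LinearMap.comp_apply, TensorProduct.map_tmul, LinearMap.mul'_apply, hm, hn, one_mul] at this
  exact one_ne_zero this

theorem nontrivial_baseChange {B : Type u} [CommRing B] [IsLocalRing B] [Algebra A B]
    [IsLocalHom (algebraMap A B)] (hM : Nontrivial M) : Nontrivial (B ⊗[A] M) := by
  obtain ⟨f, m, hm⟩ := exists_functional (A := A) hM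
  refine nontrivial_of_ne ((1 : B) ⊗ₜ m) 0 fun h => ?_
  let F : B ⊗[A] M →ₗ[A] ResidueField B :=
    (LinearMap.mul' A (ResidueField B)).comp (TensorProduct.map
      (IsScalarTower.toAlgHom A B (ResidueField B)).toLinearMap
      ((IsScalarTower.toAlgHom A (ResidueField A) (ResidueField B)).toLinearMap.comp f))
  have := congrArg F h
  rw [map_zero] at this
  simp only [F, LinearMap.comp_apply, TensorProduct.map_tmul, LinearMap.mul'_apply, hm,
    AlgHom.toLinearMap_apply, map_one, one_mul] at this
  exact one_ne_zero this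

end Algebra

variable {X Y : Scheme.{u}}

theorem finite_stalk (F : X.Modules) [hq : Coh.IsQCoh F] (hF : CohB1.IsFT F) (x : X) :
    Module.Finite (X.presheaf.stalk x) (F.presheaf.stalk x) := by
  obtain ⟨U, hU, hxU, -⟩ := exists_isAffineOpen_mem_and_subset (U := (⊤ : X.Opens)) (x := x) trivial
  haveI := QC.finite_sections (M := F) hU hF
  exact LocFree.finite_stalk hU hq hxU

theorem support_pullback (f : Y ⟶ X) (F : X.Modules) [Coh.IsQCoh F] (hF : CohB1.IsFT F) :
    CohB1.support ((Scheme.Modules.pullback f).obj F) = f.base ⁻¹' CohB1.support F := by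
  ext y
  let e := ((KFlat.pullStalkIso f y).app F).toLinearEquiv
  show ¬ Subsingleton _ ↔ ¬ Subsingleton _
  haveI : Module.Finite (X.presheaf.stalk (f.base y)) ((DerSch.stalkFunctor X (f.base y)).obj F) :=
    finite_stalk F hF (f.base y)
  haveI := finite_stalk F hF (f.base y)
  letI : Algebra (X.presheaf.stalk (f.base y)) (Y.presheaf.stalk y) := (f.stalkMap y).hom.toAlgebra
  haveI : IsLocalHom (algebraMap (X.presheaf.stalk (f.base y)) (Y.presheaf.stalk y)) :=
    inferInstanceAs (IsLocalHom (f.stalkMap y).hom)
  rw [not_iff_not]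
  refine (e.toEquiv.subsingleton_congr).trans ?_
  constructor
  · intro h
    by_contra hne
    rw [not_subsingleton_iff_nontrivial] at hne
    exact not_nontrivial_iff_subsingleton.2 h
      (nontrivial_baseChange (A := X.presheaf.stalk (f.base y)) (B := Y.presheaf.stalk y) hne)
  · intro h
    exact (inferInstance : Subsingleton ((Y.presheaf.stalk y) ⊗[X.presheaf.stalk (f.base y)] (F.presheaf.stalk (f.base y))))

theorem support_tensor (F G : X.Modules)
    (hF : ∀ x, Module.Finite (X.presheaf.stalk x) (F.presheaf.stalk x))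
    (hG : ∀ x, Module.Finite (X.presheaf.stalk x) (G.presheaf.stalk x)) :
    CohB1.support (CohB1.tensorMod F G) = CohB1.support F ∩ CohB1.support G := by
  ext x
  let e := (KFlat.stTensorIso F G x).toLinearEquiv
  show ¬ Subsingleton _ ↔ ¬ Subsingleton _ ∧ ¬ Subsingleton _
  haveI := hF x
  haveI := hG x
  constructor
  · intro h
    constructor <;> intro hs <;> apply h
    · haveI : Subsingleton (↥(F.presheaf.stalk x) ⊗[↥(X.presheaf.stalk x)] ↥(G.presheaf.stalk x)) := inferInstance
      exact e.toEquiv.subsingleton_congr.1 ‹_›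
    · haveI : Subsingleton (↥(F.presheaf.stalk x) ⊗[↥(X.presheaf.stalk x)] ↥(G.presheaf.stalk x)) := inferInstance
      exact e.toEquiv.subsingleton_congr.1 ‹_›
  · rintro ⟨h1, h2⟩ h
    rw [not_subsingleton_iff_nontrivial] at h1 h2
    haveI : Subsingleton (↥(F.presheaf.stalk x) ⊗[↥(X.presheaf.stalk x)] ↥(G.presheaf.stalk x)) :=
      e.toEquiv.subsingleton_congr.2 h
    exact not_nontrivial _ (nontrivial_tensor (A := X.presheaf.stalk x) h1 h2)

end Groth.Agent.SupportLib
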