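/- The annihilator ideal sheaf of a quasi-coherent module of finite type. -/
import Mathlib
import Groth.Agent.QC.FiniteType
import Groth.Agent.LocFree.Props

set_option autoImplicit false
set_option linter.style.haveILetI false
universe u
open CategoryTheory AlgebraicGeometry Opposite TopologicalSpace
open Groth.Agent.QC (res resO res_res res_smul)

namespace Groth.Agent.SupportLib

variable {X : Scheme.{u}} (F : X.Modules)

/-- the annihilator of the sections over an open -/
noncomputable def annAt (U : X.Opens) : Ideal Γ(X, U) := Module.annihilator Γ(X, U) Γ(F, U)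

theorem annAt_map [hq : Coh.IsQCoh F] (hF : CohB1.IsFT F) {U : X.Opens} (hU : IsAffineOpen U) (f : Γ(X, U)) :
    (annAt F U).map (X.presheaf.map (homOfLE (X.basicOpen_le f)).op).hom = annAt F (X.basicOpen f) := by
  have hL := QC.isLoc_of_isQCoh (M := F) hU
  have hu : IsUnit (resO X (X.basicOpen_le f) f) := X.toRingedSpace.isUnit_res_basicOpen f
  apply le_antisymm
  · rw [Ideal.map_le_iff_le_comap]
    intro a ha
    rw [Ideal.mem_comap, annAt, Module.mem_annihilator]
    intro t
    obtain ⟨n, s, hs⟩ := hL.exists_extend f t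
    rw [← (hu.pow n).smul_eq_zero, smul_comm, ← hs]
    change resO X (X.basicOpen_le f) a • res F (X.basicOpen_le f) s = 0
    rw [← res_smul, Module.mem_annihilator.1 ha s, map_zero]
  · intro b hb
    letI := (X.presheaf.map (homOfLE (X.basicOpen_le f)).op).hom.toAlgebra
    haveI : IsLocalization.Away f Γ(X, X.basicOpen f) := hU.isLocalization_basicOpen f
    obtain ⟨n, a, hab⟩ := IsLocalization.Away.surj f b
    classical
    haveI := QC.finite_sections (M := F) hU hF
    obtain ⟨k, v, hv⟩ := Module.Finite.exists_fin (R := Γ(X, U)) (M := Γ(F, U))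
    have hz : ∀ i, ∃ m, f ^ m • (a • v i) = 0 := fun i => by
      refine hL.exists_pow_smul_eq_zero f _ ?_
      rw [res_smul]
      change algebraMap Γ(X, U) Γ(X, X.basicOpen f) a • _ = 0
      rw [← hab, mul_comm, mul_smul, Module.mem_annihilator.1 hb, smul_zero]
    choose m hm using hz
    have hann : f ^ (Finset.univ.sup m) * a ∈ annAt F U := by
      rw [annAt, Module.mem_annihilator]
      intro t
      have ht : t ∈ Submodule.span Γ(X, U) (Set.range v) := hv ▸ trivial
      induction ht using Submodule.span_induction with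
      | mem y hy =>
        obtain ⟨i, rfl⟩ := hy
        obtain ⟨d, hd⟩ := Nat.exists_eq_add_of_le (Finset.le_sup (f := m) (Finset.mem_univ i))
        rw [hd, pow_add, mul_comm (f ^ m i), mul_assoc, mul_smul, mul_smul, hm, smul_zero]
      | zero => rw [smul_zero]
      | add _ _ _ _ hx hy => rw [smul_add, hx, hy, add_zero]
      | smul c y _ hy => rw [smul_comm, hy, smul_zero]
    have h1 := Ideal.mem_map_of_mem (algebraMap Γ(X, U) Γ(X, X.basicOpen f)) hann
    have hu' : IsUnit (algebraMap Γ(X, U) Γ(X, X.basicOpen f) f) := IsLocalization.Away.algebraMap_isUnit f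
    have key : algebraMap Γ(X, U) Γ(X, X.basicOpen f) (f ^ (Finset.univ.sup m) * a) =
        (algebraMap Γ(X, U) Γ(X, X.basicOpen f) f ^ (Finset.univ.sup m) *
          algebraMap Γ(X, U) Γ(X, X.basicOpen f) f ^ n) * b := by
      rw [map_mul, map_pow, ← hab]; ring
    rw [key] at h1
    exact (Ideal.unit_mul_mem_iff_mem _ ((hu'.pow (Finset.univ.sup m)).mul (hu'.pow n))).1 h1

/-- the annihilator ideal sheaf -/
noncomputable def annSheaf [Coh.IsQCoh F] (hF : CohB1.IsFT F) : X.IdealSheafData where
  ideal U := annAt F U.1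
  map_ideal_basicOpen U f := annAt_map F hF U.2 f

theorem mem_support_iff [hq : Coh.IsQCoh F] (hF : CohB1.IsFT F) {U : X.Opens} (hU : IsAffineOpen U) {x : X}
    (hx : x ∈ U) : x ∈ CohB1.support F ↔ x ∈ X.zeroLocus (U := U) (annAt F U) := by
  haveI := QC.finite_sections (M := F) hU hF
  obtain ⟨g, hg⟩ := LocFree.exists_stalkMap hU hq hx
  letI := Module.compHom (F.presheaf.stalk x) (X.presheaf.germ U x hx).hom
  haveI := hg
  have hp : ∀ a : Γ(X, U), x ∈ X.basicOpen a ↔ a ∉ (hU.primeIdealOf ⟨x, hx⟩).asIdeal := fun a => by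
    have h : hU.fromSpec (hU.primeIdealOf ⟨x, hx⟩) ∈ X.basicOpen a ↔
        hU.primeIdealOf ⟨x, hx⟩ ∈ PrimeSpectrum.basicOpen a := by
      rw [← hU.fromSpec_preimage_basicOpen a]; rfl
    rwa [hU.fromSpec_primeIdealOf] at h
  rw [Scheme.zeroLocus_def]
  simp only [Set.mem_iInter, Set.mem_compl_iff, TopologicalSpace.Opens.carrier_eq_coe, SetLike.mem_coe, hp, not_not]
  constructor
  · intro h a ha
    by_contra hap
    apply h
    refine ⟨fun s t => ?_⟩
    have key : ∀ s : F.presheaf.stalk x, s = 0 := by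
      intro s
      obtain ⟨⟨m, b⟩, hmb⟩ := IsLocalizedModule.surj (hU.primeIdealOf ⟨x, hx⟩).asIdeal.primeCompl g s
      have h1 : g m = 0 := (IsLocalizedModule.eq_zero_iff (hU.primeIdealOf ⟨x, hx⟩).asIdeal.primeCompl g).2
        ⟨⟨a, hap⟩, Module.mem_annihilator.1 ha m⟩
      exact IsLocalizedModule.smul_injective g b (show b • s = b • (0 : F.presheaf.stalk x) by rw [smul_zero]; exact hmb.trans h1)
    rw [key s, key t]
  · intro h hs
    classical
    obtain ⟨k, v, hv⟩ := Module.Finite.exists_fin (R := Γ(X, U)) (M := Γ(F, U))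
    have hz : ∀ i, ∃ c : (hU.primeIdealOf ⟨x, hx⟩).asIdeal.primeCompl, c • v i = 0 := fun i =>
      (IsLocalizedModule.eq_zero_iff _ g).1 (hs.elim _ _)
    choose c hc using hz
    have hann : ((∏ i, c i : (hU.primeIdealOf ⟨x, hx⟩).asIdeal.primeCompl) : Γ(X, U)) ∈ annAt F U := by
      rw [annAt, Module.mem_annihilator]
      intro t
      have ht : t ∈ Submodule.span Γ(X, U) (Set.range v) := hv ▸ trivial
      induction ht using Submodule.span_induction with
      | mem y hy =>
        obtain ⟨i, rfl⟩ := hy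
        rw [← Finset.prod_erase_mul _ _ (Finset.mem_univ i)]
        change ((_ : (hU.primeIdealOf ⟨x, hx⟩).asIdeal.primeCompl) * c i) • v i = 0
        rw [mul_smul, hc, smul_zero]
      | zero => rw [smul_zero]
      | add _ _ _ _ h1 h2 => rw [smul_add, h1, h2, add_zero]
      | smul d y _ hy => rw [smul_comm, hy, smul_zero]
    exact (∏ i, c i).2 (h _ hann)

theorem support_annSheaf [Coh.IsQCoh F] (hF : CohB1.IsFT F) :
    ((annSheaf F hF).support : Set X) = CohB1.support F := by
  ext x
  obtain ⟨U, hU, hxU, -⟩ := exists_isAffineOpen_mem_and_subset (U := (⊤ : X.Opens)) (x := x) trivial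
  rw [SetLike.mem_coe, Scheme.IdealSheafData.mem_support_iff_of_mem (U := ⟨U, hU⟩) hxU]
  exact (mem_support_iff F hF hU hxU).symm

/-- a power of an ideal with support containing the support of `F` kills `F` over an affine -/
theorem exists_pow_le_annAt [IsLocallyNoetherian X] [Coh.IsQCoh F] (hF : CohB1.IsFT F) (J : X.IdealSheafData)
    (h : CohB1.support F ⊆ (J.support : Set X)) (U : X.affineOpens) :
    ∃ n : ℕ, J.ideal U ^ n ≤ annAt F U.1 := by
  haveI := IsLocallyNoetherian.component_noetherian U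
  refine Ideal.exists_pow_le_of_le_radical_of_fg ?_ (IsNoetherian.noetherian _)
  intro a ha
  rw [Ideal.radical_eq_sInf, Submodule.mem_sInf]
  rintro q ⟨hq, hqp⟩
  by_contra haq
  let y : PrimeSpectrum Γ(X, U.1) := ⟨q, hqp⟩
  have hy : U.2.fromSpec y ∈ U.1 := U.2.range_fromSpec.le ⟨y, rfl⟩
  have hpre : ∀ b : Γ(X, U.1), U.2.fromSpec y ∈ X.basicOpen b ↔ b ∉ q := fun b => by
    have : y ∈ U.2.fromSpec ⁻¹ᵁ X.basicOpen b ↔ y ∈ PrimeSpectrum.basicOpen b := by
      rw [U.2.fromSpec_preimage_basicOpen b]; rfl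
    exact this
  have hs : U.2.fromSpec y ∈ CohB1.support F := by
    rw [mem_support_iff F hF U.2 hy, Scheme.zeroLocus_def]
    simp only [Set.mem_iInter, Set.mem_compl_iff, TopologicalSpace.Opens.carrier_eq_coe, SetLike.mem_coe, hpre, not_not]
    exact fun b hb => hq hb
  have hJ := h hs
  rw [SetLike.mem_coe, Scheme.IdealSheafData.mem_support_iff_of_mem hy, Scheme.zeroLocus_def] at hJ
  exact Set.mem_iInter₂.1 hJ a ha ((hpre a).2 haq)

end Groth.Agent.SupportLib
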